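import Groth.Agent.GeomConn.Normal
import Groth.Agent.GeomConn.Comp
import Groth.Agent.SepBC.Closed

/-!
Galois action on the components of the base change to a separable closure.
-/

set_option autoImplicit false
set_option linter.style.haveILetI false
set_option backward.isDefEq.respectTransparency false
universe u

namespace Groth.Agent.GalComp

open AlgebraicGeometry CategoryTheory CategoryTheory.Limits Groth.Agent.GeomConn

variable {k : Type u} [Field k] {X : Scheme.{u}} (f : X ⟶ Spec (CommRingCat.of k))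
  (Ω : Type u) [Field Ω] [Algebra k Ω]

local notation "wΩ" => Spec.map (CommRingCat.ofHom (algebraMap k Ω))

theorem isIntegralHom_fst [Algebra.IsAlgebraic k Ω] : IsIntegralHom (pullback.fst f wΩ) := by
  haveI : Algebra.IsIntegral k Ω := inferInstance
  haveI : IsIntegralHom wΩ := IsIntegralHom.SpecMap_iff.mpr (algebraMap_isIntegral_iff.mpr inferInstance)
  infer_instance

theorem autMap_image_preimage (σ : Ω ≃ₐ[k] Ω) (T : Set X) :
    autMap f σ '' ((pullback.fst f wΩ) ⁻¹' T) = (pullback.fst f wΩ) ⁻¹' T := by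
  have hp : ∀ z, pullback.fst f wΩ (autMap f σ z) = pullback.fst f wΩ z := fun z => by
    rw [← Scheme.Hom.comp_apply, autMap_fst]
  apply Set.Subset.antisymm
  · rintro _ ⟨z, hz, rfl⟩
    show pullback.fst f wΩ _ ∈ T
    rw [hp]; exact hz
  · intro z hz
    obtain ⟨y, rfl⟩ := (isHomeomorph_autMap f σ).surjective z
    exact ⟨y, by rw [Set.mem_preimage, ← hp]; exact hz, rfl⟩

theorem preimage_image_of_invariant [Normal k Ω] {C : Set ↥(pullback f wΩ)}
    (h : ∀ σ : Ω ≃ₐ[k] Ω, autMap f σ '' C = C) :
    (pullback.fst f wΩ) ⁻¹' ((pullback.fst f wΩ) '' C) = C := by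
  refine subset_antisymm ?_ (Set.subset_preimage_image _ _)
  rintro y ⟨y', hy', he⟩
  obtain ⟨σ, hσ⟩ := exists_autMap_eq f y' y he
  rw [← h σ]
  exact ⟨y', hy', hσ⟩

theorem image_eq_iff [Normal k Ω] {Z' Z'' : Set ↥(pullback f wΩ)}
    (hZ' : Z' ∈ irreducibleComponents ↥(pullback f wΩ))
    (hZ'' : Z'' ∈ irreducibleComponents ↥(pullback f wΩ)) :
    pullback.fst f wΩ '' Z' = pullback.fst f wΩ '' Z'' ↔ ∃ σ : Ω ≃ₐ[k] Ω, autMap f σ '' Z' = Z'' := by
  haveI : Algebra.IsAlgebraic k Ω := Normal.toIsAlgebraic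
  haveI := isIntegralHom_fst f Ω
  let π := pullback.fst f wΩ
  constructor
  · intro h
    obtain ⟨z', hz'⟩ := QuasiSober.sober hZ'.1 (isClosed_of_mem_irreducibleComponents _ hZ')
    obtain ⟨z'', hz''⟩ := QuasiSober.sober hZ''.1 (isClosed_of_mem_irreducibleComponents _ hZ'')
    have hcl : ∀ {Z : Set ↥(pullback f wΩ)} {z}, IsGenericPoint z Z → IsClosed Z →
        IsGenericPoint (π z) (π '' Z) := fun {Z z} hz hc => by
      have := hz.image (f := π) π.continuous
      rwa [(π.isClosedMap Z hc).closure_eq] at this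
    have e : π z' = π z'' := (hcl hz' (isClosed_of_mem_irreducibleComponents _ hZ')).eq
      (by rw [h]; exact hcl hz'' (isClosed_of_mem_irreducibleComponents _ hZ''))
    obtain ⟨σ, hσ⟩ := exists_autMap_eq f z' z'' e
    refine ⟨σ, ?_⟩
    let φ := (isHomeomorph_autMap f σ).homeomorph
    show φ '' Z' = Z''
    rw [← hz'.def, φ.image_closure, Set.image_singleton]
    exact hσ ▸ hz''.def
  · rintro ⟨σ, rfl⟩
    rw [Set.image_image]
    exact Set.image_congr fun z _ => by rw [← Scheme.Hom.comp_apply, autMap_fst]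

/-- A property of subsets passing to images passes to the preimages over any extension, once it
holds for the preimages over the extensions of `Ω`. -/
theorem preimage_of_common (P : ∀ {Y : Scheme.{u}}, Set Y → Prop)
    (hP : ∀ {Y Y' : Scheme.{u}} (g : Y ⟶ Y') (s : Set Y), P s → P (g '' s)) (T : Set X)
    (h : ∀ (L : Type u) [Field L] [Algebra Ω L],
      P ((pullback.fst (pullback.snd f wΩ) (Spec.map (CommRingCat.ofHom (algebraMap Ω L)))) ⁻¹'
        ((pullback.fst f wΩ) ⁻¹' T)))
    (K : Type u) [Field K] [Algebra k K] :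
    P ((pullback.fst f (Spec.map (CommRingCat.ofHom (algebraMap k K)))) ⁻¹' T) := by
  obtain ⟨L, _, _, _, _, _, _⟩ := exists_common_field k K Ω
  obtain ⟨qΩ, hqΩ, hpbΩ⟩ := exists_factor (k' := Ω) (L := L) f
  obtain ⟨qK, hqK, hpbK⟩ := exists_factor (k' := K) (L := L) f
  have hs : Function.Surjective qK := (factor_props f hpbK).1
  let m : pullback (pullback.snd f wΩ) (Spec.map (CommRingCat.ofHom (algebraMap Ω L))) ⟶
      pullback f (Spec.map (CommRingCat.ofHom (algebraMap k K))) := hpbΩ.isoPullback.inv ≫ qK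
  haveI : Surjective qK := ⟨hs⟩
  haveI : Surjective m := inferInstance
  have hm : m ≫ pullback.fst f _ = pullback.fst _ _ ≫ pullback.fst f wΩ := by
    simp only [m, Category.assoc, hqK, ← hqΩ]
    rw [← Category.assoc, hpbΩ.isoPullback_inv_fst]
  have := hP m _ (h L)
  convert this using 1
  rw [← Set.image_preimage_eq ((pullback.fst f (Spec.map (CommRingCat.ofHom (algebraMap k K)))) ⁻¹' T) m.surjective]
  congr 1
  ext z
  simp only [Set.mem_preimage, ← Scheme.Hom.comp_apply, hm]

theorem isIrreducible_preimage_of_sep [IsSepClosed Ω] {T : Set X}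
    (hT : IsIrreducible ((pullback.fst f wΩ) ⁻¹' T)) (K : Type u) [Field K] [Algebra k K] :
    IsIrreducible ((pullback.fst f (Spec.map (CommRingCat.ofHom (algebraMap k K)))) ⁻¹' T) :=
  preimage_of_common f Ω (fun {Y} s => IsIrreducible s) (fun g s hs => hs.image g g.continuous.continuousOn) T
    (fun L _ _ => Groth.Agent.SepBC.isIrreducible_preimage (pullback.snd f wΩ) hT) K

theorem isConnected_preimage_of_sep [IsSepClosed Ω] {T : Set X}
    (hT : _root_.IsConnected ((pullback.fst f wΩ) ⁻¹' T)) (K : Type u) [Field K] [Algebra k K] :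
    _root_.IsConnected ((pullback.fst f (Spec.map (CommRingCat.ofHom (algebraMap k K)))) ⁻¹' T) :=
  preimage_of_common f Ω (fun {Y} s => _root_.IsConnected s) (fun g s hs => hs.image g g.continuous.continuousOn) T
    (fun L _ _ => Groth.Agent.SepBC.isConnected_preimage (pullback.snd f wΩ) hT) K

end Groth.Agent.GalComp
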