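import Groth.Agent.GalComp.Finite
import Groth.Agent.S1583
import Groth.Agent.S7621

/-!
Connected components defined over a finite separable extension.
-/

set_option autoImplicit false
set_option linter.style.haveILetI false
set_option backward.isDefEq.respectTransparency false
universe u

namespace Groth.Agent.GalComp

open AlgebraicGeometry CategoryTheory CategoryTheory.Limits Groth.Agent.GeomConn

variable (k : Type u) [Field k] (X : Scheme.{u}) [X.Over (Spec (CommRingCat.of k))]

local notation "fk" => X ↘ Spec (CommRingCat.of k)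

theorem connectedComponents_finite_sep [Finite (_root_.ConnectedComponents ↥X)]
    (hx : ∀ c : _root_.ConnectedComponents ↥X, ∃ x : X, _root_.ConnectedComponents.mk x = c ∧
      ((Curv2.bcFst k X (SeparableClosure k)) ⁻¹' {x}).Finite) :
    Finite (_root_.ConnectedComponents ↥(Curv2.bc k X (SeparableClosure k))) := by
  let π := Curv2.bcFst k X (SeparableClosure k)
  choose x hx hfin using hx
  haveI : Finite ↥(⋃ c, π ⁻¹' {x c}) := (Set.finite_iUnion hfin).to_subtype
  refine Finite.of_surjective (fun z : ↥(⋃ c, π ⁻¹' {x c}) => _root_.ConnectedComponents.mk z.1) fun C => ?_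
  obtain ⟨t, rfl⟩ := _root_.ConnectedComponents.surjective_coe C
  have h := Groth.Agent.S1583.result k X (SeparableClosure k) t
  have hm : x (_root_.ConnectedComponents.mk (π t)) ∈ connectedComponent (π t) := by
    rw [← ConnectedComponents.coe_eq_coe']
    exact hx _
  rw [← h] at hm
  obtain ⟨z, hz, hzx⟩ := hm
  exact ⟨⟨z, Set.mem_iUnion.2 ⟨_, hzx⟩⟩, ConnectedComponents.coe_eq_coe'.2 hz⟩

theorem exists_finite_stabilizing_conn
    [Finite (_root_.ConnectedComponents ↥(Curv2.bc k X (SeparableClosure k)))] :
    ∃ E : IntermediateField k (SeparableClosure k), FiniteDimensional k E ∧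
      ∀ σ : SeparableClosure k ≃ₐ[k] SeparableClosure k, (∀ a : E, σ a = a) →
        ∀ t, autMap fk σ '' connectedComponent t = connectedComponent t := by
  let Ω := SeparableClosure k
  let P := Curv2.bc k X Ω
  have hopen : ∀ t : P, IsOpen (connectedComponent t) := fun t => by
    rw [← connectedComponents_preimage_singleton]
    haveI : DiscreteTopology (_root_.ConnectedComponents ↥P) := inferInstance
    exact (isOpen_discrete _).preimage ConnectedComponents.continuous_coe
  choose s hs using _root_.ConnectedComponents.surjective_coe (α := ↥P)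
  have hone : ∀ c : _root_.ConnectedComponents ↥P, ∃ E : IntermediateField k Ω,
      FiniteDimensional k E ∧ ∀ σ : Ω ≃ₐ[k] Ω, (∀ a : Ω, a ∈ E → σ a = a) →
        autMap fk σ '' connectedComponent (s c) = connectedComponent (s c) := by
    intro c
    let U : P.Opens := ⟨connectedComponent (s c), hopen _⟩
    obtain ⟨W, hW, hzW, hWU⟩ := exists_isAffineOpen_mem_and_subset (U := U) (x := s c) mem_connectedComponent
    obtain ⟨E, hE, hEσ⟩ := Groth.Agent.S7621.result k Ω X W W.2 hW.isCompact
    refine ⟨E, hE, fun σ hσ => ?_⟩
    have hσz : autMap fk σ (s c) ∈ (W : Set _) := (hEσ σ hσ).subset ⟨s c, hzW, rfl⟩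
    let φ := (isHomeomorph_autMap fk σ).homeomorph
    have : φ '' connectedComponent (s c) = connectedComponent (φ (s c)) := by
      have := φ.image_connectedComponentIn (s := Set.univ) (Set.mem_univ (s c))
      simpa [connectedComponentIn_univ] using this
    exact this.trans (connectedComponent_eq (hWU hσz)).symm
  choose E hE hEσ using hone
  haveI : ∀ C, FiniteDimensional k (E C) := hE
  refine ⟨⨆ C, E C, IntermediateField.finiteDimensional_iSup_of_finite, fun σ hσ t => ?_⟩
  have e : connectedComponent t = connectedComponent (s (_root_.ConnectedComponents.mk t)) :=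
    ConnectedComponents.coe_eq_coe.1 (hs _).symm
  rw [e]
  exact hEσ _ σ fun a ha => hσ ⟨a, le_iSup E _ ha⟩

theorem preimage_isConnected (Ω : Type u) [Field Ω] [Algebra k Ω] [IsGalois k Ω]
    (E : Type u) [Field E] [Algebra k E] [Algebra E Ω] [IsScalarTower k E Ω]
    (hfix : ∀ σ : Ω ≃ₐ[k] Ω, (∀ a : E, σ (algebraMap E Ω a) = algebraMap E Ω a) →
      ∀ t : ↥(pullback fk (Spec.map (CommRingCat.ofHom (algebraMap k Ω)))),
        autMap fk σ '' connectedComponent t = connectedComponent t)
    (x' : ↥(pullback fk (Spec.map (CommRingCat.ofHom (algebraMap k E))))) :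
    _root_.IsConnected ((pullback.fst (pullback.snd fk (Spec.map (CommRingCat.ofHom (algebraMap k E))))
      (Spec.map (CommRingCat.ofHom (algebraMap E Ω)))) ⁻¹' connectedComponent x') := by
  let g := pullback.snd fk (Spec.map (CommRingCat.ofHom (algebraMap k E)))
  letI : (pullback fk (Spec.map (CommRingCat.ofHom (algebraMap k E)))).Over (Spec (CommRingCat.of E)) := ⟨g⟩
  haveI : IsGalois E Ω := IsGalois.tower_top_of_isGalois k E Ω
  let wE := Spec.map (CommRingCat.ofHom (algebraMap E Ω))
  let p := pullback.fst g wE
  obtain ⟨q, hq, hpb⟩ := exists_factor (k' := E) (L := Ω) fk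
  let φ := hpb.isoPullback.inv
  have hφ1 : φ ≫ q = p := hpb.isoPullback_inv_fst
  have hφ2 : φ ≫ pullback.snd fk _ = pullback.snd g wE := hpb.isoPullback_inv_snd
  have h1583 := Groth.Agent.S1583.result E (pullback fk (Spec.map (CommRingCat.ofHom (algebraMap k E)))) Ω
  haveI : Surjective wE := surjective_Spec_field
  haveI : Surjective p := MorphismProperty.of_isPullback (IsPullback.of_hasPullback g wE).flip ‹Surjective wE›
  obtain ⟨z, hz⟩ := p.surjective x'
  suffices heq : p ⁻¹' connectedComponent x' = connectedComponent z by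
    rw [heq]; exact isConnected_connectedComponent
  refine subset_antisymm (fun y hy => ?_) ?_
  · have hm : x' ∈ p '' connectedComponent y := (h1583 y).symm ▸
      (connectedComponent_eq hy ▸ mem_connectedComponent (x := x'))
    obtain ⟨y', hy', hyx⟩ := hm
    obtain ⟨σ, hσ⟩ := exists_autMap_eq g z y' (hz.trans hyx.symm)
    let σk : Ω ≃ₐ[k] Ω := σ.restrictScalars k
    have hcomm : autMap g σ ≫ φ = φ ≫ autMap fk σk := by
      apply pullback.hom_ext
      · rw [Category.assoc, Category.assoc, autMap_fst, ← hq, reassoc_of% hφ1, autMap_fst_assoc]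
      · rw [Category.assoc, Category.assoc, autMap_snd, hφ2, reassoc_of% hφ2, autMap_snd]
        rfl
    have hfixC := hfix σk (fun a => σ.commutes a) (φ z)
    have h2 : φ y' ∈ connectedComponent (φ z) := by
      rw [← hσ, ← Scheme.Hom.comp_apply, hcomm, Scheme.Hom.comp_apply, ← hfixC]
      exact ⟨φ z, mem_connectedComponent, rfl⟩
    have h3 : y' ∈ connectedComponent z := by
      have e := φ.homeomorph.image_connectedComponentIn (s := Set.univ) (Set.mem_univ z)
      simp only [connectedComponentIn_univ, Set.image_univ, φ.homeomorph.surjective.range_eq] at e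
      obtain ⟨w, hw, hwy⟩ := (e.symm ▸ h2 : φ.homeomorph y' ∈ φ.homeomorph '' connectedComponent z)
      exact φ.homeomorph.injective hwy ▸ hw
    rw [connectedComponent_eq h3, ← connectedComponent_eq hy']
    exact mem_connectedComponent
  · intro y hy
    have : p y ∈ p '' connectedComponent z := ⟨y, hy, rfl⟩
    have h4 : p '' connectedComponent z = connectedComponent (p z) := h1583 z
    rw [h4, hz] at this
    exact this

end Groth.Agent.GalComp
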