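import Groth.Agent.GalComp.Def
import Groth.Agent.GeomConn.Pieces
import Mathlib.FieldTheory.SeparableClosure

/-!
Finitely many components over a separable closure.
-/

set_option autoImplicit false
set_option linter.style.haveILetI false
set_option backward.isDefEq.respectTransparency false
universe u

namespace Groth.Agent.GalComp

open AlgebraicGeometry CategoryTheory CategoryTheory.Limits Groth.Agent.GeomConn

variable {k : Type u} [Field k] {X : Scheme.{u}}

theorem fibre_finite (f : X ⟶ Spec (CommRingCat.of k)) (x : X) (φ : k →+* X.residueField x)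
    (hφ : Spec.map (CommRingCat.ofHom φ) = X.fromSpecResidueField x ≫ f)
    (hfd : letI := φ.toAlgebra; FiniteDimensional k (separableClosure k (X.residueField x))) :
    ((pullback.fst f (Spec.map (CommRingCat.ofHom (algebraMap k (SeparableClosure k))))) ⁻¹' {x}).Finite := by
  letI := φ.toAlgebra
  let Ω := SeparableClosure k
  let k' := separableClosure k (X.residueField x)
  haveI : FiniteDimensional k k' := hfd
  let i : k' →+* X.residueField x := k'.val.toRingHom
  have hi : i.comp (algebraMap k k') = φ := RingHom.ext fun c => rfl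
  let τ₀ : k' →ₐ[k] Ω := IsSepClosed.lift
  have hbot : letI := i.toAlgebra; separableClosure k' (X.residueField x) = ⊥ :=
    separableClosure.separableClosure_eq_bot k (X.residueField x)
  refine Set.Finite.subset (Set.finite_iUnion fun τ : k' →ₐ[k] Ω =>
    (piece_subsingleton hφ i hi hbot τ).finite) fun z hz => ?_
  obtain ⟨τ, hτ⟩ := exists_piece hφ i hi τ₀ z hz
  exact Set.mem_iUnion.2 ⟨τ, hτ⟩

theorem components_finite (f : X ⟶ Spec (CommRingCat.of k)) [Finite ↥(irreducibleComponents ↥X)]
    (hx : ∀ (Z : Set ↥X) (hZ : Z ∈ irreducibleComponents ↥X),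
      ((pullback.fst f (Spec.map (CommRingCat.ofHom (algebraMap k (SeparableClosure k))))) ⁻¹'
        {hZ.1.genericPoint}).Finite) :
    letI : X.Over (Spec (CommRingCat.of k)) := ⟨f⟩
    (irreducibleComponents ↥(Curv2.bc k X (SeparableClosure k))).Finite := by
  letI : X.Over (Spec (CommRingCat.of k)) := ⟨f⟩
  let Ω := SeparableClosure k
  let π := Curv2.bcFst k X Ω
  haveI : IsIntegralHom π := isIntegralHom_fst f Ω
  refine Set.Finite.subset ((Set.finite_iUnion fun Z : irreducibleComponents ↥X => hx Z.1 Z.2).image
    fun z => closure {z}) fun C hC => ?_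
  obtain ⟨c, hc⟩ := QuasiSober.sober hC.1 (isClosed_of_mem_irreducibleComponents C hC)
  have hT := (Groth.Agent.S1546.result k X Ω).1 C hC
  have hg : IsGenericPoint (π c) (π '' C) := by
    have := hc.image (f := π) π.continuous
    rwa [(π.isClosedMap C (isClosed_of_mem_irreducibleComponents C hC)).closure_eq] at this
  refine ⟨c, Set.mem_iUnion.2 ⟨⟨_, hT⟩, ?_⟩, hc.def⟩
  have h2 := hT.1.isGenericPoint_genericPoint_closure
  rw [(π.isClosedMap C (isClosed_of_mem_irreducibleComponents C hC)).closure_eq] at h2
  exact hg.eq h2

end Groth.Agent.GalComp
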